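import Cfsg.Agent.Phan.TwoA

/-!
# Phan's theorem over the field with four elements
-/

set_option autoImplicit false

namespace Cfsg.Lib.Phan

open Matrix Cfsg.Lib.Class Cfsg.Lib.Class.Form

variable {F : Type*} [Field F] [Fintype F] {G : Type*} [Group G]
  [hF : Fact (Fintype.card F = 2 ^ 2)]

omit [Fintype F] hF in
theorem IsDg.of_blk {q : ℕ} {A : SU 3 F q} {a b c d : F}
    (h : IsDg (blk 1 (by omega : 1 + 3 ≤ 4) A) ![a, b, c, d]) : IsDg A ![b, c, d] := by
  intro i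
  ext j
  have := congrFun (congrFun h.mat_eq j.succ) i.succ
  rw [mat_blk] at this
  rw [smul_e]
  fin_cases i <;> fin_cases j <;> simpa [e] using this

theorem exists_perm4 : ∀ i j k : Fin 4, i ≠ j → i ≠ k → j ≠ k →
    ∃ π : Equiv.Perm (Fin 4), π 1 = i ∧ π 2 = j ∧ π 3 = k := by
  decide +kernel

theorem zeta_comm {ω : F} (hω : ω * ω + ω + 1 = 0) (y : SU 3 F 2) :
    bA (dg ω (om_norm hω)) * (bB (dg ω (om_norm hω))) ^ 2 * y =
      y * (bA (dg ω (om_norm hω)) * (bB (dg ω (om_norm hω))) ^ 2) := by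
  have h := (isDg_bA ω (om_norm hω)).mul ((isDg_bB ω (om_norm hω)).mul (isDg_bB ω (om_norm hω)))
  rw [← pow_two] at h
  have h1 : mat (bA (dg ω (om_norm hω)) * (bB (dg ω (om_norm hω))) ^ 2) = ω • 1 := by
    rw [h.mat_eq]
    have := om_cube hω
    ext i j
    fin_cases i <;> fin_cases j <;> simp <;> grind
  apply mat_ext
  rw [mat_mul, h1, mat_mul, h1]
  simp

theorem norm4 (φ : SU 3 F 2 →* SU 4 F 2) (iA : Function.Injective (φ.comp bA))
    (iB : Function.Injective (φ.comp bB)) {ω : F} (hω : ω * ω + ω + 1 = 0)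
    (hne : φ (bA (dg ω (om_norm hω))) ≠ φ (bB (dg ω (om_norm hω)))) :
    ∃ c : SU 4 F 2 →* SU 4 F 2, Function.Bijective c ∧
      (∀ x, c (blk 1 (by omega : 1 + 3 ≤ 4) x) = φ x) ∧
      ∃ p : Fin 4 → F, p ≠ 0 ∧ ∀ x, φ x • p = p := by
  have hc := zeta_comm hω
  have hw := w3_conj (dg ω (om_norm hω))
  have hd := dg_cube ω (om_norm hω)
  set d := dg ω (om_norm hω) with hdd
  have hA : bA d ^ 3 = 1 := by rw [← map_pow, hd, map_one]
  have hB : bB d ^ 3 = 1 := by rw [← map_pow, hd, map_one]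
  set ζ := bA d * bB d ^ 2 with hζ
  have h1 : ζ * bB d = bA d := by rw [hζ, mul_assoc, ← pow_succ, hB, mul_one]
  have h2 : bA d * w3 F 2 = w3 F 2 * (ζ * bA d) := by
    rw [← mul_assoc, ← hc, mul_assoc, mul_inv_eq_iff_eq_mul.1 hw, ← mul_assoc, h1]
  have h3 : ζ ^ 3 = 1 := by
    have hAB : Commute (bA d) (bB d) := by
      rw [← h1]; exact (Commute.mul_left (hc _) rfl)
    rw [hζ, (hAB.pow_right 2).mul_pow, hA, ← pow_mul, mul_comm 2, pow_mul, hB, one_pow, one_mul]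
  have h4 : ζ * (ζ * bA d) = bB d := by
    rw [← h1, ← mul_assoc, ← mul_assoc, ← pow_three', h3, one_mul]
  obtain ⟨k, α, β, hα, hβ⟩ := exists_diag
    (dec_three two_eq_zero hω (om_norm hω) (x := φ ζ) (by rw [← map_pow, h3, map_one]))
    (dec_three two_eq_zero hω (om_norm hω) (x := φ (bA d)) (by rw [← map_pow, hA, map_one]))
    (by rw [← map_mul, ← map_mul, hc])
  obtain ⟨i0, hi0⟩ : ∃ i, α i ≠ 1 := by
    by_contra h
    push Not at h
    have := hα.eq_one h
    rw [mul_assoc, inv_mul_eq_one, eq_comm, mul_eq_right] at this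
    exact hne (by rw [← h1, map_mul, this, one_mul])
  have nz : ∀ {x : SU 4 F 2} {a : Fin 4 → F}, IsDg x a → ∀ i, a i ≠ 0 := fun h i h0 => by
    have := h.prod
    rw [Finset.prod_eq_zero (Finset.mem_univ i) h0] at this
    exact zero_ne_one this
  have hl := root_of_ne (nz hα i0) hi0
  set l := α i0 with hl'
  have step : ∀ μ, (∃ j, α j = l ∧ β j = μ) → ∃ j, α j = l ∧ β j = l * μ := by
    rintro μ ⟨j, h5, h6⟩
    have hv : (k⁻¹ * φ (w3 F 2) * k) • (e j : Fin 4 → F) ≠ 0 := fun h =>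
      e_ne_zero j (by rw [← inv_smul_smul (k⁻¹ * φ (w3 F 2) * k) (e j : Fin 4 → F), h, smul_zero])
    obtain ⟨j', hj'⟩ := Function.ne_iff.1 hv
    refine ⟨j', by_contra fun h => hj' (hα.coord ?_ h), by_contra fun h => hj' (hβ.coord ?_ h)⟩
    · rw [← mul_smul, show k⁻¹ * φ ζ * k * (k⁻¹ * φ (w3 F 2) * k) =
          k⁻¹ * φ (w3 F 2) * k * (k⁻¹ * φ ζ * k) by
        calc _ = k⁻¹ * φ (ζ * w3 F 2) * k := by rw [map_mul φ ζ]; group
          _ = _ := by rw [hc, map_mul]; group, mul_smul, hα j, h5, smul_smul_comm]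
    · rw [← mul_smul, show k⁻¹ * φ (bA d) * k * (k⁻¹ * φ (w3 F 2) * k) =
          k⁻¹ * φ (w3 F 2) * k * (k⁻¹ * φ ζ * k * (k⁻¹ * φ (bA d) * k)) by
        calc _ = k⁻¹ * φ (bA d * w3 F 2) * k := by rw [map_mul]; group
          _ = _ := by rw [h2, map_mul, map_mul]; group, mul_smul, (hα.mul hβ) j, Pi.mul_apply, h5,
        h6, smul_smul_comm]
  have p1 : ∃ j, α j = l ∧ β j = 1 := by
    have p0 : ∃ j, α j = l ∧ β j = β i0 := ⟨i0, rfl, rfl⟩
    rcases om_cases hl (nz hβ i0) with h | h | h <;> rw [h] at p0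
    · exact p0
    · rw [← om_cube hl]; exact step _ (step _ p0)
    · rw [← om_cube hl]; exact step _ p0
  obtain ⟨i1, a1, b1⟩ := step _ p1
  obtain ⟨i2, a2, b2⟩ := step _ ⟨i1, a1, b1⟩
  obtain ⟨i3, a3, b3⟩ := p1
  rw [mul_one] at b1 b2
  obtain ⟨π, π1, π2, π3⟩ := exists_perm4 i1 i2 i3
    (by rintro rfl; exact om_sq_ne hl (b2.symm.trans b1))
    (by rintro rfl; exact om_ne_one hl (b1.symm.trans b3))
    (by rintro rfl; exact om_sq_ne_one hl (b2.symm.trans b3))
  obtain ⟨k', c', hk'⟩ := exists_perm (F := F) (q := 2) π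
  have d0 := hα.perm hk'
  have d1 := hβ.perm hk'
  have e0 : α ∘ π = ![1, l, l, l] := by
    have := d0.prod
    rw [Fin.prod_univ_four] at this
    simp only [Function.comp_apply, π1, π2, π3, a1, a2, a3] at this
    ext i
    fin_cases i
    · exact (by linear_combination this - α (π 0) * om_cube hl : α (π 0) = 1)
    all_goals simp [π1, π2, π3, a1, a2, a3]
  have e1 : β ∘ π = ![1, l, l * l, 1] := by
    have := d1.prod
    rw [Fin.prod_univ_four] at this
    simp only [Function.comp_apply, π1, π2, π3, b1, b2, b3] at this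
    ext i
    fin_cases i
    · exact (by linear_combination this - β (π 0) * om_cube hl : β (π 0) = 1)
    all_goals simp [π1, π2, π3, b1, b2, b3]
  rw [e0, show ∀ z, k'⁻¹ * (k⁻¹ * z * k) * k' = (k * k')⁻¹ * z * (k * k') by intro z; group] at d0
  rw [e1, show ∀ z, k'⁻¹ * (k⁻¹ * z * k) * k' = (k * k')⁻¹ * z * (k * k') by intro z; group] at d1
  generalize k * k' = t at d0 d1
  set φ' := (MulAut.conj t⁻¹).toMonoidHom.comp φ with hφ'
  have hφ : ∀ x, φ' x = t⁻¹ * φ x * t := fun x => by simp [hφ']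
  rw [← hφ] at d0 d1
  have fx : ∀ x, φ' x • (e 0 : Fin 4 → F) = e 0 := fun x =>
    gen4 ((MulAction.stabilizer (SU 4 F 2) (e 0 : Fin 4 → F)).comap φ') (fun y hy =>
      fix_of_four (by rw [← map_pow, hy, map_one]) (d0.simple (i := 0) (fun j hj => by
        fin_cases j
        · exact absurd rfl hj
        all_goals exact om_ne_one hl) (by rw [← map_mul, ← map_mul, hc]))) x
  obtain ⟨θ, hθ⟩ := exists_factor (blk_injective 1 (by omega : 1 + 3 ≤ 4)) (φ' := φ') (by
    rintro _ ⟨x, rfl⟩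
    exact exists_blk 1 _ (fun j hj => by
      obtain rfl : j = 0 := by omega
      exact fx x))
  have d2 := d0.mul (d0.mul d1)
  rw [← map_mul, ← map_mul, h4, show (![1, l, l, l] * (![1, l, l, l] * ![1, l, l * l, 1]) :
    Fin 4 → F) = ![1, 1, l, l * l] by
      have := om_cube hl
      ext i
      fin_cases i <;> simp <;> grind, ← hθ] at d2
  rw [← hθ] at d1
  have inj : ∀ {b : SU 2 F 2 →* SU 3 F 2}, Function.Injective (φ.comp b) →
      Function.Injective (θ.comp b) := fun hb x y h => hb (by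
    have := congrArg (blk 1 (by omega : 1 + 3 ≤ 4)) h
    simp only [MonoidHom.comp_apply, hθ, hφ] at this ⊢
    simpa using this)
  obtain ⟨a, b, ha, hb, σ, h⟩ := eq_tw (inj iA) (inj iB) hω hl d1.of_blk d2.of_blk
  have hd4 : ∀ i, (![1, 1, a, b] : Fin 4 → F) i * bar 2 ((![1, 1, a, b] : Fin 4 → F) i) = 1 :=
    fun i => by fin_cases i <;> simp [ha, hb]
  refine ⟨(MulAut.conj t).toMonoidHom.comp (tw _ hd4 σ),
    (MulAut.conj t).bijective.comp ⟨tw_injective _ _ _, tw_surjective _ _ _⟩, fun x => ?_,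
    t • e 0, fun h => e_ne_zero (F := F) 0 (by
      rw [← inv_smul_smul t (e 0 : Fin 4 → F), h, smul_zero]), fun x => ?_⟩
  · rw [MonoidHom.comp_apply, tw_blk 1 _ _ hd4 σ _ (norm_three (a := 1) (by simp) ha hb)
      (fun a => by fin_cases a <;> rfl), ← h, hθ, hφ]
    simp [mul_assoc]
  · have := fx x
    rwa [hφ, mul_smul, mul_smul, inv_smul_eq_iff] at this

theorem ne_of_std {ψ φ : SU 3 F 2 →* G} (iA : Function.Injective (ψ.comp bA))
    (hr : (ψ.comp bB).range = (φ.comp bA).range) (iB : Function.Injective (ψ.comp bB))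
    (iA' : Function.Injective (φ.comp bA)) (hc : ∀ x y, Commute (ψ (bA x)) (φ (bB y)))
    {ω : F} (hω : ω * ω + ω + 1 = 0) :
    φ (bA (dg ω (om_norm hω))) ≠ φ (bB (dg ω (om_norm hω))) := by
  intro h
  obtain ⟨y, hy⟩ := hr.ge ⟨dg ω (om_norm hω), rfl⟩
  simp only [MonoidHom.comp_apply] at hy
  obtain ⟨c, hc', rfl⟩ := su2_three (y := y) (iB (by
    rw [map_pow, MonoidHom.comp_apply, hy, ← map_pow, ← map_pow, dg_cube]; simp))
  have h0 : c ≠ 0 := by rintro rfl; simp at hc'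
  have hb : bar 2 c * bar 2 c = c := by rw [bar_apply]; linear_combination pow_four c
  have h1 := bB_dg_mul c hc' (by rw [hb]; exact hc') (s2 F 2)
  rw [show dg (bar 2 c * bar 2 c) (by rw [hb]; exact hc') = dg c hc' by simp only [hb]] at h1
  have h2 : dg c hc' * s2 F 2 * (dg c hc')⁻¹ = s2 F 2 := iA (by
    simp only [MonoidHom.comp_apply]
    rw [← h1, map_mul, map_mul, map_inv, hy, h, ← (hc _ _).eq, mul_inv_cancel_right])
  refine s2_dg_ne hc' (fun h3 => ?_) (mul_inv_eq_iff_eq_mul.1 h2).symm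
  obtain rfl : c = 1 := by linear_combination cube_of_ne h0 - c * h3
  have h4 : dg ω (om_norm hω) = 1 := iA' (by
    rw [MonoidHom.comp_apply, ← hy, show dg (1 : F) hc' = 1 from
      su2_ext (by simp [mat_dg, mat_one]) (by simp [mat_dg, mat_one])]
    simp)
  have := congrArg (fun x => mat x 0 0) h4
  simp [mat_dg, mat_one] at this
  exact om_ne_one hω this

theorem four {U0 U1 U2 V0 : Subgroup G} {φ : SU 3 F 2 →* G} (h0 : Std F 2 V0 U0 U1)
    (h1 : (φ.comp bA).range = U1) (h2 : (φ.comp bB).range = U2)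
    (c0 : Nat.card U0 = Nat.card (SU 2 F 2)) (c1 : Nat.card U1 = Nat.card (SU 2 F 2))
    (c2 : Nat.card U2 = Nat.card (SU 2 F 2)) (hc : ∀ x ∈ U0, ∀ y ∈ U2, x * y = y * x)
    (g : SU 4 F 2 →* G) (hg : g.range = V0 ⊔ φ.range) :
    ∃ g' : SU 4 F 2 →* G, (∀ x, g' (blk 1 (by omega : 1 + 3 ≤ 4) x) = φ x) ∧
      (g'.comp (blk 0 (by omega : 0 + 3 ≤ 4))).range = V0 ∧
      (g'.comp (blk 0 (by omega : 0 + 2 ≤ 4))).range = U0 := by
  obtain ⟨ψ, p1, p2, p3⟩ := h0
  obtain ⟨ω, hω⟩ := exists_omega F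
  have j0 := injective_of_card (p2 ▸ c0)
  have j1 := injective_of_card (p3 ▸ c1)
  have j1' := injective_of_card (h1 ▸ c1)
  have j2 := injective_of_card (h2 ▸ c2)
  have hc' : ∀ x y, Commute (ψ (bA x)) (φ (bB y)) := fun x y =>
    hc _ (p2 ▸ ⟨x, rfl⟩) _ (h2 ▸ ⟨y, rfl⟩)
  have n1 := ne_of_std j0 (p3.trans h1.symm) j1 j1' hc' hω
  have hφ : φ.range ≤ g.range := by rw [hg]; exact le_sup_right
  have gi : Function.Injective g := by
    refine (injective_iff_map_eq_one g).2 fun x hx => ?_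
    obtain ⟨y, hy⟩ := hφ ⟨bA (dg ω (om_norm hω)) * (bB (dg ω (om_norm hω)))⁻¹, rfl⟩
    obtain ⟨-, c, h2, h3⟩ := ker_le_center le_rfl g ⟨y, by
      rw [hy, map_mul, map_inv]; exact fun h => n1 (mul_inv_eq_one.1 h)⟩ hx
    rw [pow_four] at h2
    exact mat_ext (by rw [h3, h2, one_smul, mat_one])
  have inj : ∀ {g : SU 4 F 2 →* G} {θ : SU 3 F 2 →* SU 4 F 2} {φ : SU 3 F 2 →* G}
      {b : SU 2 F 2 →* SU 3 F 2}, (∀ x, g (θ x) = φ x) → Function.Injective (φ.comp b) →
      Function.Injective (θ.comp b) := fun h hb x y h' => hb (by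
    simp only [MonoidHom.comp_apply] at h' ⊢
    rw [← h, ← h, h'])
  obtain ⟨θ, hθ⟩ := exists_factor gi hφ
  obtain ⟨c, hc1, hc2, -⟩ := norm4 θ (inj hθ j1') (inj hθ j2) hω
    (fun h => n1 (by rw [← hθ, ← hθ, h]))
  set g' := g.comp c with hg'
  have k1 : ∀ x, g' (blk 1 (by omega : 1 + 3 ≤ 4) x) = φ x := fun x => by
    rw [hg', MonoidHom.comp_apply, hc2, hθ]
  have gi' : Function.Injective g' := gi.comp hc1.1
  obtain ⟨η, hη⟩ := exists_factor gi' (φ' := ψ) (by
    rw [range_comp_surj _ hc1.2, hg, p1]; exact le_sup_left)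
  have f0 : ∀ y, η (bA y) • (e 2 : Fin 4 → F) = e 2 ∧ η (bA y) • (e 3 : Fin 4 → F) = e 3 := by
    have hd : IsDg (blk 1 (by omega : 1 + 3 ≤ 4) (bB (dg ω (om_norm hω)))) ![1, 1, ω, ω * ω] := by
      intro i
      ext j
      rw [smul_e, mat_blk, mat_bB, mat_dg]
      fin_cases i <;> fin_cases j <;> simp [e, bar_apply, pow_two]
    intro y
    refine su2_two (((MulAction.stabilizer (SU 4 F 2) (e 2 : Fin 4 → F) ⊓
      MulAction.stabilizer (SU 4 F 2) (e 3 : Fin 4 → F)).comap η).comap bA) (fun y hy => ?_) y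
    have h4 : η (bA y) ^ 4 = 1 := by
      rw [← map_pow, ← map_pow, show y ^ 4 = (y ^ 2) ^ 2 from pow_mul y 2 2, hy, one_pow, map_one,
        map_one]
    have h5 : blk 1 (by omega : 1 + 3 ≤ 4) (bB (dg ω (om_norm hω))) * η (bA y) =
        η (bA y) * blk 1 (by omega : 1 + 3 ≤ 4) (bB (dg ω (om_norm hω))) :=
      gi' (by rw [map_mul, map_mul, k1, hη, (hc' _ _).eq])
    refine ⟨fix_of_four h4 (hd.simple (i := 2) (fun j hj => ?_) h5),
      fix_of_four h4 (hd.simple (i := 3) (fun j hj => ?_) h5)⟩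
    · fin_cases j
      exacts [(om_ne_one hω).symm, (om_ne_one hω).symm, absurd rfl hj, om_sq_ne hω]
    · fin_cases j
      exacts [(om_sq_ne_one hω).symm, (om_sq_ne_one hω).symm, (om_sq_ne hω).symm, absurd rfl hj]
  have r0 : (η.comp bA).range = (blk 0 (by omega : 0 + 2 ≤ 4)).range :=
    range_eq_of_le (inj hη j0) (by
      rintro _ ⟨y, rfl⟩
      exact exists_blk 0 _ (fun j hj => by
        obtain rfl | rfl : j = 2 ∨ j = 3 := by omega
        exacts [(f0 y).1, (f0 y).2]))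
  have r1 : ∀ y, ∃ y', η (bB y) = blk 1 (by omega : 1 + 3 ≤ 4) (bA y') := fun y => by
    obtain ⟨y', h⟩ := (p3.trans h1.symm).le ⟨y, rfl⟩
    exact ⟨y', gi' (by rw [hη, k1]; exact h.symm)⟩
  have r1' : ∀ y', ∃ y, η (bB y) = blk 1 (by omega : 1 + 3 ≤ 4) (bA y') := fun y' => by
    obtain ⟨y, h⟩ := (p3.trans h1.symm).ge ⟨y', rfl⟩
    exact ⟨y, gi' (by rw [hη, k1]; exact h)⟩
  obtain ⟨c', hc1', hc2', p, hp, hp'⟩ := norm4 η (inj hη j0) (inj hη j1) hω (fun h => by
    obtain ⟨y', h3⟩ := r1 (dg ω (om_norm hω))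
    obtain ⟨A, hA⟩ := r0.le ⟨dg ω (om_norm hω), rfl⟩
    have h4 : blk 0 (by omega : 0 + 2 ≤ 4) A • (e 0 : Fin 4 → F) = e 0 := by
      rw [hA, MonoidHom.comp_apply, h, h3]
      exact blk_e_out _ _ _ (Or.inl (by simp))
    have h5 : A = 1 := by
      obtain ⟨k1, k2, k3⟩ := su2_entries A
      have e0 := congrFun h4 0
      have e1 := congrFun h4 1
      rw [smul_e, mat_blk] at e0 e1
      simp [e] at e0 e1
      exact su2_ext (by simp [e0, mat_one]) (by simpa [e1, mat_one, bar_eq_zero] using k1)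
    rw [h5, map_one] at hA
    have h6 : dg ω (om_norm hω) = 1 := inj hη j0 (by rw [← hA, map_one])
    have := congrArg (fun x => mat x 0 0) h6
    simp [mat_dg, mat_one] at this
    exact om_ne_one hω this)
  have hp3 : p = p 3 • e 3 := by
    obtain ⟨y, hy⟩ := r0.ge ⟨dg ω (om_norm hω), rfl⟩
    obtain ⟨y', hy'⟩ := r1' (dg ω (om_norm hω))
    have a1 := hp' (bA y)
    have a2 := hp' (bB y')
    rw [MonoidHom.comp_apply] at hy
    rw [hy] at a1
    rw [hy'] at a2
    have d1 : IsDg (blk 0 (by omega : 0 + 2 ≤ 4) (dg ω (om_norm hω))) ![ω, ω * ω, 1, 1] := by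
      intro i
      ext j
      rw [smul_e, mat_blk, mat_dg]
      fin_cases i <;> fin_cases j <;> simp [e, bar_apply, pow_two]
    have d2 : IsDg (blk 1 (by omega : 1 + 3 ≤ 4) (bA (dg ω (om_norm hω)))) ![1, ω, ω * ω, 1] := by
      intro i
      ext j
      rw [smul_e, mat_blk, mat_bA, mat_dg]
      fin_cases i <;> fin_cases j <;> simp [e, bar_apply, pow_two]
    refine eq_smul_e fun j hj => ?_
    fin_cases j
    · exact d1.coord (c := 1) (by rw [a1, one_smul]) (om_ne_one hω)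
    · exact d2.coord (c := 1) (by rw [a2, one_smul]) (om_ne_one hω)
    · exact d2.coord (c := 1) (by rw [a2, one_smul]) (om_sq_ne_one hω)
    · exact absurd rfl hj
  have r2 : η.range = (blk 0 (by omega : 0 + 3 ≤ 4)).range :=
    range_eq_of_le (fun x y h => blk_injective 1 (by omega : 1 + 3 ≤ 4) (hc1'.1 (by
      rw [hc2', hc2', h]))) (by
      rintro _ ⟨y, rfl⟩
      exact exists_blk 0 _ (fun j hj => by
        obtain rfl : j = 3 := by omega
        have h3 := hp' y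
        rw [hp3, smul_smul_comm] at h3
        exact smul_right_injective _ (fun h => hp (by rw [hp3, h, zero_smul])) h3))
  have hψ : ψ = g'.comp η := MonoidHom.ext fun x => (hη x).symm
  refine ⟨g', k1, ?_, ?_⟩
  · rw [← p1, hψ, MonoidHom.range_comp g', MonoidHom.range_comp g', r2]
  · rw [← p2, hψ, MonoidHom.comp_assoc bA η g', MonoidHom.range_comp g', MonoidHom.range_comp g',
      r0]

theorem Sys.exists_inv_two {n : ℕ} (hn : 3 ≤ n) {U V : ℕ → Subgroup G} (h : Sys F 2 n U V)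
    (h4 : ∀ i, i + 3 ≤ n → ∃ g : SU 4 F 2 →* G, g.range = V i ⊔ V (i + 1))
    (h5 : ∀ i j, i + 2 ≤ j → j + 2 ≤ n → ∀ x ∈ U i, ∀ y ∈ V j, x * y = y * x)
    (h6 : ∀ i j, i + 3 ≤ j → j + 2 ≤ n → ∀ x ∈ V i, ∀ y ∈ V j, x * y = y * x) :
    ∃ f : SU (n + 1) F 2 →* G, Inv n U V f := by
  induction n, hn using Nat.le_induction generalizing U V with
  | base =>
    obtain ⟨g, hg⟩ := h4 0 le_rfl
    obtain ⟨φ, q1, q2, q3⟩ := h.std 1 le_rfl
    obtain ⟨g', k1, k2, k3⟩ := four (h.std 0 (by omega)) q2 q3 (h.card 0 (by omega))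
      (h.card 1 (by omega)) (h.card 2 (by omega)) (h.comm 0 2 le_rfl (by omega)) g (by rw [hg, q1])
    have hφ : φ = g'.comp (blk 1 (by omega : 1 + 3 ≤ 4)) := MonoidHom.ext fun x => (k1 x).symm
    subst hφ
    refine ⟨g', fun i hi => ?_, fun i hi => ?_⟩
    · obtain rfl | rfl : i = 0 ∨ i = 1 := by omega
      exacts [k2, q1]
    · obtain rfl | rfl | rfl : i = 0 ∨ i = 1 ∨ i = 2 := by omega
      · exact k3
      · rw [← q2]; congr 1; ext1 x; simp only [MonoidHom.comp_apply, blk_blk]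
      · rw [← q3]; congr 1; ext1 x; simp only [MonoidHom.comp_apply, blk_blk]
  | succ n hn ih =>
    obtain ⟨f, hf⟩ := ih h.shift (fun i hi => h4 (i + 1) (by omega))
      (fun i j hij hj => h5 (i + 1) (j + 1) (by omega) (by omega))
      (fun i j hij hj => h6 (i + 1) (j + 1) (by omega) (by omega))
    obtain ⟨g, hg⟩ := h4 0 (by omega)
    obtain ⟨g', k1, k2, k3⟩ := four (φ := f.comp (blk 0 (by omega : 0 + 3 ≤ n + 1)))
      (h.std 0 (by omega))
      (by
        refine Eq.trans ?_ (hf.2 0 (by omega))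
        congr 1; ext1 x; simp only [MonoidHom.comp_apply, blk_blk])
      (by
        refine Eq.trans ?_ (hf.2 1 (by omega))
        congr 1; ext1 x; simp only [MonoidHom.comp_apply, blk_blk])
      (h.card 0 (by omega)) (h.card 1 (by omega)) (h.card 2 (by omega))
      (h.comm 0 2 le_rfl (by omega)) g (by rw [hg, hf.1 0])
    obtain ⟨Φ, p1, p2⟩ := Phan.step (m := n + 1) (r := 3) (by omega) (by omega) f g'
      (fun x => (k1 x).symm)
      (fun l hl _ x y => commute_of_gen (k := 3) (Or.inl le_rfl) (by omega) 1 _ f _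
        (fun i hi z => (h5 0 (1 + i + 1) (by omega) (by omega) _ (k3.le ⟨y, rfl⟩) _
          ((hf.1 _ hi).le ⟨z, rfl⟩)).symm) x)
      (by omega) (Or.inl le_rfl) (fun _ hm l hl _ x y => by
        obtain rfl : l = 3 := by omega
        exact (h6 0 3 le_rfl (by omega) _ (k2.le ⟨y, rfl⟩) _ ((hf.1 2 _).le ⟨x, rfl⟩)).symm)
    refine ⟨Φ, hf.succ p1 (fun _ => ?_) ?_⟩
    · rw [← k2]
      congr 1
      ext1 x
      simp only [MonoidHom.comp_apply]
      rw [← p2, blk_blk]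
    · rw [← k3]
      congr 1
      ext1 x
      simp only [MonoidHom.comp_apply]
      rw [← p2, blk_blk]

end Cfsg.Lib.Phan
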